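import Cfsg.Agent.MQ.WT.Chk
import Cfsg.Agent.MQ.Z.LV.W.E8b
import Cfsg.Agent.Lib.ListFast
import Cfsg.Agent.Prune
set_option linter.all false
prune_inst 0x7f00000000000000000000000000000000000000000000000000000000000000000000000000000000000000000000000000000000000000000000000000000000000000000000000000000000000000003fffffffffffffffffffffffffffbeffbdffffffff
open scoped Cfsg.Agent.FastGrp

/-!
# MO / U : the representatives are not conjugate, E8 (helper64, generated)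
-/

set_option autoImplicit false
set_option maxRecDepth 100000

namespace Cfsg.Agent.MO.U.Q5

open Cfsg.Agent.LV.W

/-- a table look-up -/
def look (t : List (ℕ × ℤ)) (x : ℕ) : ℤ := List.rec 0 (fun p _ ih => cond (Nat.beq p.1 x) p.2 ih) t

/-- the key of a pair -/
def key2 (x y : ℤ) : ℕ := Int.natAbs (Int.add (Int.mul x 65537) y)

/-- `c'` is a function of `c` and `v`, by a table -/
def fnT (K : ℕ) (c v c' : ℕ → ℤ) : Bool :=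
  allLt K fun k => decide (c' k = look ((List.range K).map fun j => (key2 (c j) (v j), c' j)) (key2 (c k) (v k)))

theorem fnB_of {K : ℕ} {c v c' : ℕ → ℤ} (h : fnT K c v c' = true) : fnB K c v c' = true :=
  allLt_iff.2 fun k hk => allLt_iff.2 fun k' hk' => by
    by_cases e1 : c k = c k'
    · by_cases e2 : v k = v k'
      · rw [of_decide_eq_true (allLt_iff.1 h k hk), of_decide_eq_true (allLt_iff.1 h k' hk'), e1, e2, decide_eq_true rfl,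
          Bool.or_true]
      · rw [decide_eq_true e2, Bool.or_true, Bool.true_or]
    · rw [decide_eq_true e1, Bool.true_or, Bool.true_or]

/-- the digits -/
def digs (B : ℕ) (n : ℕ) : ℤ → List ℤ :=
  Nat.rec (fun _ => []) (fun _ ih x => Int.bmod x B :: ih (Int.ediv (Int.sub x (Int.bmod x B)) B)) n

/-- the coefficients -/
def cfs (nd : Nd) (f : List ℤ) : List (ℤ × ℕ) := (List.range nd.K).map fun k => (nd.n k * nth 0 f k, k)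

/-- the packed form of `casB` -/
def casP (nd : Nd) (B : ℕ) (lev f g : List ℤ) : Bool :=
  (fun XP => (fun l => linP nd.K nd.b B XP (cfs nd f) l && linP nd.K nd.b B XP (cfs nd g) (List.zipWith Int.mul lev l))
    (digs B nd.K (dotP (cfs nd f) (nth 0 XP)))) (nd.XC.map (pkz B))

theorem nth_zip (u v : List ℤ) (i : ℕ) : nth 0 (List.zipWith Int.mul u v) i = nth 0 u i * nth 0 v i := by
  induction u generalizing v i with
  | nil => exact (zero_mul _).symm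
  | cons a u ih => cases v with
    | nil => exact (mul_zero _).symm
    | cons b v => cases i with
      | zero => rfl
      | succ i => exact ih v i

theorem casB_of {nd : Nd} (G : nd.Good) {B : ℕ} {lev f g : List ℤ} (h : casP nd B lev f g = true) :
    casB nd lev (nth 0 f) (nth 0 g) = true := allLt_iff.2 fun φ hφ => decide_eq_true (by
  obtain ⟨h1, h2⟩ := Bool.and_eq_true_iff.1 h
  have h3 : ∀ f : List ℤ, (sumLt nd.K fun k => nd.n k * nd.X φ k * nth 0 f k) =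
      ((cfs nd f).map fun p => p.1 * ga nd.XC p.2 φ).sum := fun f => by
    rw [sumLt_eq, cfs, List.map_map]
    exact Finset.sum_congr rfl fun k _ => mul_right_comm _ _ _
  rw [h3, h3, (linP_spec G.spec.2.2.2.2.1 G.spec.2.2.2.2.2.1 h1).2 φ hφ,
    (linP_spec G.spec.2.2.2.2.1 G.spec.2.2.2.2.2.1 h2).2 φ hφ, nth_zip])

/-- one step -/
def stp (nd : Nd) (B : ℕ) (c g c' : List ℤ) : Bool :=
  Nat.blt 0 nd.cas.length && casP nd B (nth ⟨[], [], [], []⟩ nd.cas 0).lev c g && fnT nd.K (nth 0 c) (nth 0 g) (nth 0 c')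

theorem goD_stp {nd : Nd} (G : nd.Good) {B : ℕ} {pr : List Ds} {c g c' : List ℤ} (h1 : stp nd B c g c' = true)
    (h2 : goD nd pr (nth 0 c') = true) : goD nd (.cas 0 g c' :: pr) (nth 0 c) = true := by
  obtain ⟨h1, h3⟩ := Bool.and_eq_true_iff.1 h1
  obtain ⟨h1, h4⟩ := Bool.and_eq_true_iff.1 h1
  exact Bool.and_eq_true_iff.2 ⟨Bool.and_eq_true_iff.2 ⟨Bool.and_eq_true_iff.2 ⟨h1, casB_of G h4⟩, fnB_of h3⟩, h2⟩

theorem goD_orb {nd : Nd} {pr : List Ds} {c : ℕ → ℤ} {ws : List ℕ} {c' : List ℤ}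
    (h1 : (orbB nd ws (ws.map fun n => run nd.tab n nd.n0) &&
      fnT nd.K c (fun k => if nth 0 nd.cod k ∈ ws.map fun n => run nd.tab n nd.n0 then 1 else 0) (nth 0 c')) = true)
    (h2 : goD nd pr (nth 0 c') = true) : goD nd (.orb ws c' :: pr) c = true :=
  Bool.and_eq_true_iff.2 ⟨Bool.and_eq_true_iff.2 ⟨(Bool.and_eq_true_iff.1 h1).1, fnB_of (Bool.and_eq_true_iff.1 h1).2⟩, h2⟩

theorem goD_end {nd : Nd} {c : ℕ → ℤ} (h : fnT nd.K c c (fun k => k) = true) : goD nd [] c = true :=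
  allLt_iff.2 fun k hk => allLt_iff.2 fun k' hk' => by
    simpa [or_comm, imp_iff_not_or] using allLt_iff.1 (allLt_iff.1 (fnB_of h) k hk) k' hk'

/-- colours -/
def e8c0 : List ℤ :=
  [0, 1, 1, 1, 1, 1, 1, 1, 1, 1, 1, 1, 1, 1, 1, 1, 1, 1, 1, 1, 1, 1, 1, 1, 1, 1, 1, 1, 1, 1, 1, 1, 1, 1, 1, 1,
  1, 1, 1, 1, 1, 1, 1, 1, 1, 1, 1, 1, 1, 1, 1, 1, 1, 1, 1, 1, 1, 1, 1, 1, 1, 1, 1, 1, 1, 1, 1, 1, 1, 1, 1, 1, 1,
  1, 1, 1, 1, 1, 1, 1, 1, 1, 1, 1, 1, 1, 1, 1, 1, 1, 1, 1, 1, 1, 1, 1, 1, 1, 1, 1, 1, 1, 1, 1, 1, 1, 1, 1, 1, 1,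
  1, 1]

/-- colours -/
def e8c1 : List ℤ :=
  [1, 0, 2, 2, 2, 2, 2, 2, 2, 2, 2, 2, 2, 2, 2, 2, 2, 2, 2, 2, 2, 2, 2, 2, 2, 2, 2, 2, 2, 2, 2, 2, 2, 2, 2, 2,
  2, 2, 2, 2, 2, 2, 2, 2, 2, 2, 2, 2, 2, 2, 2, 2, 2, 2, 2, 2, 2, 2, 2, 2, 2, 2, 2, 2, 2, 2, 2, 2, 2, 2, 2, 2, 2,
  2, 2, 2, 2, 2, 2, 2, 2, 2, 2, 2, 2, 2, 2, 2, 2, 2, 2, 2, 2, 2, 2, 2, 2, 2, 2, 2, 2, 2, 2, 2, 2, 2, 2, 2, 2, 2,
  2, 2]

/-- images -/
def e8g1 : List ℤ :=
  [120, 119, 120, 120, 120, 120, 120, 120, 120, 120, 120, 120, 120, 120, 120, 120, 120, 120, 120, 120, 120, 120,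
  120, 120, 120, 120, 120, 120, 120, 120, 120, 120, 120, 120, 120, 120, 120, 120, 120, 120, 120, 120, 120, 120,
  120, 120, 120, 120, 120, 120, 120, 120, 120, 120, 120, 120, 120, 120, 120, 120, 120, 120, 120, 120, 120, 120,
  120, 120, 120, 120, 120, 120, 120, 120, 120, 120, 120, 120, 120, 120, 120, 120, 120, 120, 120, 120, 120, 120,
  120, 120, 120, 120, 120, 120, 120, 120, 120, 120, 120, 120, 120, 120, 120, 120, 120, 120, 120, 120, 120, 120,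
  120, 120]

/-- colours -/
def e8c2 : List ℤ :=
  [3, 4, 2, 1, 0, 0, 0, 0, 0, 0, 0, 0, 0, 0, 0, 0, 0, 0, 0, 0, 0, 0, 0, 0, 0, 0, 0, 0, 0, 0, 0, 0, 0, 0, 0, 0,
  0, 0, 0, 0, 0, 0, 0, 0, 0, 0, 0, 0, 0, 0, 0, 0, 0, 0, 0, 0, 0, 0, 0, 0, 0, 0, 0, 0, 0, 0, 0, 0, 0, 0, 0, 0, 0,
  0, 0, 0, 0, 0, 0, 0, 0, 0, 0, 0, 0, 0, 0, 0, 0, 0, 0, 0, 0, 0, 0, 0, 0, 0, 0, 0, 0, 0, 0, 0, 0, 0, 0, 0, 0, 0,
  0, 0]

/-- images -/
def e8g2 : List ℤ :=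
  [0, 239, 234, 236, 240, 240, 240, 240, 240, 240, 240, 240, 240, 240, 240, 240, 240, 240, 240, 240, 240, 240,
  240, 240, 240, 240, 240, 240, 240, 240, 240, 240, 240, 240, 240, 240, 240, 240, 240, 240, 240, 240, 240, 240,
  240, 240, 240, 240, 240, 240, 240, 240, 240, 240, 240, 240, 240, 240, 240, 240, 240, 240, 240, 240, 240, 240,
  240, 240, 240, 240, 240, 240, 240, 240, 240, 240, 240, 240, 240, 240, 240, 240, 240, 240, 240, 240, 240, 240,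
  240, 240, 240, 240, 240, 240, 240, 240, 240, 240, 240, 240, 240, 240, 240, 240, 240, 240, 240, 240, 240, 240,
  240, 240]

/-- colours -/
def e8c3 : List ℤ :=
  [1, 3, 0, 6, 4, 2, 5, 7, 7, 7, 7, 7, 7, 7, 7, 7, 7, 7, 7, 7, 7, 7, 7, 7, 7, 7, 7, 7, 7, 7, 7, 7, 7, 7, 7, 7,
  7, 7, 7, 7, 7, 7, 7, 7, 7, 7, 7, 7, 7, 7, 7, 7, 7, 7, 7, 7, 7, 7, 7, 7, 7, 7, 7, 7, 7, 7, 7, 7, 7, 7, 7, 7, 7,
  7, 7, 7, 7, 7, 7, 7, 7, 7, 7, 7, 7, 7, 7, 7, 7, 7, 7, 7, 7, 7, 7, 7, 7, 7, 7, 7, 7, 7, 7, 7, 7, 7, 7, 7, 7, 7,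
  7, 7]

/-- images -/
def e8g3 : List ℤ :=
  [480, 178, 12, 8, 10, 5, 3, 0, 0, 0, 0, 0, 0, 0, 0, 0, 0, 0, 0, 0, 0, 0, 0, 0, 0, 0, 0, 0, 0, 0, 0, 0, 0, 0,
  0, 0, 0, 0, 0, 0, 0, 0, 0, 0, 0, 0, 0, 0, 0, 0, 0, 0, 0, 0, 0, 0, 0, 0, 0, 0, 0, 0, 0, 0, 0, 0, 0, 0, 0, 0, 0,
  0, 0, 0, 0, 0, 0, 0, 0, 0, 0, 0, 0, 0, 0, 0, 0, 0, 0, 0, 0, 0, 0, 0, 0, 0, 0, 0, 0, 0, 0, 0, 0, 0, 0, 0, 0, 0,
  0, 0, 0, 0]

/-- colours -/
def e8c4 : List ℤ :=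
  [8, 11, 12, 3, 9, 1, 5, 0, 15, 7, 14, 4, 6, 10, 13, 2, 2, 2, 2, 2, 2, 2, 2, 2, 2, 2, 2, 2, 2, 2, 2, 2, 2, 2,
  2, 2, 2, 2, 2, 2, 2, 2, 2, 2, 2, 2, 2, 2, 2, 2, 2, 2, 2, 2, 2, 2, 2, 2, 2, 2, 2, 2, 2, 2, 2, 2, 2, 2, 2, 2, 2,
  2, 2, 2, 2, 2, 2, 2, 2, 2, 2, 2, 2, 2, 2, 2, 2, 2, 2, 2, 2, 2, 2, 2, 2, 2, 2, 2, 2, 2, 2, 2, 2, 2, 2, 2, 2, 2,
  2, 2, 2, 2]

/-- images -/
def e8g4 : List ℤ :=
  [360, 379, 405, 380, 810, 830, 837, 800, 807, 804, 813, 824, 810, 816, 832, 840, 840, 840, 840, 840, 840, 840,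
  840, 840, 840, 840, 840, 840, 840, 840, 840, 840, 840, 840, 840, 840, 840, 840, 840, 840, 840, 840, 840, 840,
  840, 840, 840, 840, 840, 840, 840, 840, 840, 840, 840, 840, 840, 840, 840, 840, 840, 840, 840, 840, 840, 840,
  840, 840, 840, 840, 840, 840, 840, 840, 840, 840, 840, 840, 840, 840, 840, 840, 840, 840, 840, 840, 840, 840,
  840, 840, 840, 840, 840, 840, 840, 840, 840, 840, 840, 840, 840, 840, 840, 840, 840, 840, 840, 840, 840, 840,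
  840, 840]

/-- colours -/
def e8c5 : List ℤ :=
  [15, 1, 9, 22, 19, 18, 24, 12, 5, 23, 16, 7, 0, 20, 3, 8, 14, 13, 6, 11, 21, 25, 4, 2, 10, 26, 27, 17, 17, 17,
  17, 17, 17, 17, 17, 17, 17, 17, 17, 17, 17, 17, 17, 17, 17, 17, 17, 17, 17, 17, 17, 17, 17, 17, 17, 17, 17,
  17, 17, 17, 17, 17, 17, 17, 17, 17, 17, 17, 17, 17, 17, 17, 17, 17, 17, 17, 17, 17, 17, 17, 17, 17, 17, 17,
  17, 17, 17, 17, 17, 17, 17, 17, 17, 17, 17, 17, 17, 17, 17, 17, 17, 17, 17, 17, 17, 17, 17, 17, 17, 17, 17,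
  17]

/-- images -/
def e8g5 : List ℤ :=
  [1320, 869, 798, 452, 704, 831, 1159, 270, 312, 324, 249, 247, 234, 276, 252, 312, 332, 293, 308, 394, 389,
  294, 296, 352, 256, 279, 380, 240, 240, 240, 240, 240, 240, 240, 240, 240, 240, 240, 240, 240, 240, 240, 240,
  240, 240, 240, 240, 240, 240, 240, 240, 240, 240, 240, 240, 240, 240, 240, 240, 240, 240, 240, 240, 240, 240,
  240, 240, 240, 240, 240, 240, 240, 240, 240, 240, 240, 240, 240, 240, 240, 240, 240, 240, 240, 240, 240, 240,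
  240, 240, 240, 240, 240, 240, 240, 240, 240, 240, 240, 240, 240, 240, 240, 240, 240, 240, 240, 240, 240, 240,
  240, 240, 240]

/-- colours -/
def e8c6 : List ℤ :=
  [18, 4, 10, 49, 16, 33, 48, 42, 17, 41, 51, 29, 20, 31, 30, 7, 1, 19, 24, 21, 26, 25, 6, 8, 3, 28, 23, 47, 40,
  34, 13, 0, 36, 39, 12, 50, 35, 11, 2, 22, 14, 38, 37, 45, 27, 5, 9, 46, 43, 44, 32, 15, 15, 15, 15, 15, 15,
  15, 15, 15, 15, 15, 15, 15, 15, 15, 15, 15, 15, 15, 15, 15, 15, 15, 15, 15, 15, 15, 15, 15, 15, 15, 15, 15,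
  15, 15, 15, 15, 15, 15, 15, 15, 15, 15, 15, 15, 15, 15, 15, 15, 15, 15, 15, 15, 15, 15, 15, 15, 15, 15, 15,
  15]

/-- images -/
def e8g6 : List ℤ :=
  [120, 1905, 2190, 2330, 1498, 1332, 1266, 1320, 1695, 1728, 1209, 1384, 816, 804, 2588, 1953, 1908, 1971,
  1980, 1977, 2034, 1970, 1949, 1920, 1963, 1968, 1875, 1809, 1880, 1838, 1818, 1776, 1797, 1836, 1992, 1662,
  1993, 1928, 2103, 1907, 1932, 2133, 1896, 1844, 2041, 1968, 2201, 1788, 2080, 2178, 2340, 2040, 2040, 2040,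
  2040, 2040, 2040, 2040, 2040, 2040, 2040, 2040, 2040, 2040, 2040, 2040, 2040, 2040, 2040, 2040, 2040, 2040,
  2040, 2040, 2040, 2040, 2040, 2040, 2040, 2040, 2040, 2040, 2040, 2040, 2040, 2040, 2040, 2040, 2040, 2040,
  2040, 2040, 2040, 2040, 2040, 2040, 2040, 2040, 2040, 2040, 2040, 2040, 2040, 2040, 2040, 2040, 2040, 2040,
  2040, 2040, 2040, 2040]

/-- colours -/
def e8c7 : List ℤ :=
  [73, 41, 80, 54, 7, 38, 16, 27, 6, 39, 9, 72, 82, 77, 20, 53, 32, 76, 1, 4, 37, 52, 13, 57, 36, 29, 10, 61,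
  49, 45, 70, 66, 2, 24, 12, 22, 74, 60, 58, 43, 75, 62, 48, 31, 46, 79, 18, 51, 55, 64, 68, 25, 28, 71, 0, 5,
  69, 56, 44, 63, 34, 67, 26, 8, 3, 40, 11, 15, 17, 19, 81, 33, 30, 65, 50, 21, 59, 23, 35, 78, 42, 14, 47, 47,
  47, 47, 47, 47, 47, 47, 47, 47, 47, 47, 47, 47, 47, 47, 47, 47, 47, 47, 47, 47, 47, 47, 47, 47, 47, 47, 47,
  47]

/-- images -/
def e8g7 : List ℤ :=
  [480, 3665, 2496, 3944, 4596, 4799, 4514, 1335, 1068, 2328, 1958, 2136, 918, 1620, 3052, 4355, 3250, 4000,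
  3470, 3780, 3244, 2498, 4092, 5236, 2467, 2586, 3095, 1744, 1685, 1668, 1716, 1620, 1719, 1800, 1870, 1788,
  1974, 1987, 1933, 1722, 1776, 2019, 1725, 1730, 1799, 1768, 2025, 1368, 1854, 1980, 2040, 2310, 2625, 2657,
  2048, 2502, 2598, 2901, 3045, 2891, 1804, 2570, 2376, 2094, 2019, 1821, 1692, 1808, 2313, 2072, 1792, 1972,
  1626, 1812, 1968, 1926, 2004, 2394, 2248, 2294, 2839, 2871, 1800, 1800, 1800, 1800, 1800, 1800, 1800, 1800,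
  1800, 1800, 1800, 1800, 1800, 1800, 1800, 1800, 1800, 1800, 1800, 1800, 1800, 1800, 1800, 1800, 1800, 1800,
  1800, 1800, 1800, 1800]

/-- colours -/
def e8c8 : List ℤ :=
  [0, 1, 2, 3, 4, 5, 6, 7, 8, 9, 10, 11, 12, 13, 14, 15, 16, 17, 18, 19, 20, 21, 22, 23, 24, 25, 26, 27, 28, 29,
  30, 31, 32, 33, 34, 35, 36, 37, 38, 39, 40, 41, 42, 43, 44, 45, 46, 47, 48, 49, 50, 51, 52, 53, 54, 55, 56,
  57, 58, 59, 60, 61, 62, 63, 64, 65, 66, 67, 68, 69, 70, 71, 72, 73, 74, 75, 76, 77, 78, 79, 80, 81, 82, 83,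
  84, 85, 86, 87, 88, 89, 90, 91, 92, 93, 94, 95, 96, 97, 98, 99, 100, 101, 102, 103, 104, 105, 106, 107, 108,
  109, 110, 111]

/-- images -/
def e8g8 : List ℤ :=
  [4920, 7955, 2058, 3162, 2846, 4339, 4415, 5585, 4287, 7824, 3274, 2569, 4008, 5784, 3656, 5506, 4630, 2970,
  5674, 6921, 5664, 5452, 6898, 3890, 4867, 7066, 4873, 4381, 4557, 6174, 6330, 4107, 6141, 5895, 3484, 5568,
  3547, 4895, 3612, 3348, 3654, 5879, 3606, 5956, 4193, 3076, 4809, 2799, 2658, 7752, 3544, 6408, 6144, 6307,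
  5568, 5838, 5472, 5601, 5216, 5356, 5479, 5316, 5847, 4863, 5953, 5739, 5509, 5606, 5112, 5829, 6078, 5687,
  6301, 5801, 5704, 4623, 6324, 5196, 5677, 5442, 5932, 6963, 3015, 3588, 3470, 4995, 3324, 3947, 3906, 4065,
  4320, 3753, 6414, 3672, 3864, 4146, 4773, 4760, 4815, 3120, 1257, 2604, 3702, 3504, 5049, 6432, 6900, 7116,
  7080, 4572, 5040, 1680]

private noncomputable def _root_.Cfsg.Agent.LsF.f72c3a3_0 : {f // @Cfsg.Agent.LV.W.sumAbs = f} := ⟨_, by first | (delta Cfsg.Agent.LV.W.sumAbs; rewrite [Cfsg.Agent.LsF.natAbs_eq]; exact rfl) | exact rfl⟩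
private noncomputable def _root_.Cfsg.Agent.LsF.f72c3a3_1 : {f // @Cfsg.Agent.LV.W.dotP = f} := ⟨_, by first | (delta Cfsg.Agent.LV.W.dotP; rewrite [Cfsg.Agent.LsF.iadd_pat, Cfsg.Agent.LsF.imul_pat]; exact rfl) | exact rfl⟩
private noncomputable def _root_.Cfsg.Agent.LsF.f72c3a3_2 : {f // @Cfsg.Agent.LV.W.pkz = f} := ⟨_, by first | (delta Cfsg.Agent.LV.W.pkz; rewrite [Cfsg.Agent.LsF.iadd_pat, Cfsg.Agent.LsF.imul_pat]; exact rfl) | exact rfl⟩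
private noncomputable def _root_.Cfsg.Agent.LsF.f72c3a3_3 : {f // @Cfsg.Agent.LV.W.linP = f} := ⟨_, by first | (delta Cfsg.Agent.LV.W.linP; rewrite [Cfsg.Agent.LsF.f72c3a3_0.2, Cfsg.Agent.LsF.f72c3a3_1.2, Cfsg.Agent.LsF.f72c3a3_2.2, Cfsg.Agent.LsF.nadd_pat, Cfsg.Agent.LsF.nmul_pat, Cfsg.Agent.LsF.icast_pat, Cfsg.Agent.LsF.and_eq, Cfsg.Agent.LsF.all_eq, Cfsg.Agent.LsF.map_eq, Cfsg.Agent.LsF.instIDecEq_eq, Cfsg.Agent.LsF.idecLt_eq, Cfsg.Agent.LsF.length_eq, Cfsg.Agent.LsF.decide_eq]; exact rfl) | exact rfl⟩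
private noncomputable def _root_.Cfsg.Agent.LsF.f72c3a3_4 : {f // @Cfsg.Agent.MO.U.Q5.cfs = f} := ⟨_, by first | (delta Cfsg.Agent.MO.U.Q5.cfs; rewrite [Cfsg.Agent.LsF.imul_pat, Cfsg.Agent.LsF.map_eq, Cfsg.Agent.LsF.range_eq]; exact rfl) | exact rfl⟩
private noncomputable def _root_.Cfsg.Agent.LsF.f72c3a3_5 : {f // @Int.ediv = f} := ⟨_, by first | (delta Int.ediv; rewrite [Cfsg.Agent.LsF.ndiv_pat, Cfsg.Agent.LsF.ineg_pat]; (try delta Int.ediv.match_1); (try delta Int.casesOn Nat.casesOn); exact rfl) | exact rfl⟩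
private noncomputable def _root_.Cfsg.Agent.LsF.f72c3a3_6 : {f // @Cfsg.Agent.MO.U.Q5.digs = f} := ⟨_, by first | (delta Cfsg.Agent.MO.U.Q5.digs; rewrite [Cfsg.Agent.LsF.f72c3a3_5.2, Cfsg.Agent.LsF.icast_pat, Cfsg.Agent.LsF.isub_eq]; exact rfl) | exact rfl⟩
private noncomputable def _root_.Cfsg.Agent.LsF.f72c3a3_7 : {f // @Cfsg.Agent.MO.U.Q5.casP = f} := ⟨_, by first | (delta Cfsg.Agent.MO.U.Q5.casP; rewrite [Cfsg.Agent.LsF.f72c3a3_3.2, Cfsg.Agent.LsF.f72c3a3_4.2, Cfsg.Agent.LsF.f72c3a3_6.2, Cfsg.Agent.LsF.f72c3a3_1.2, Cfsg.Agent.LsF.f72c3a3_2.2, Cfsg.Agent.LsF.icast_pat, Cfsg.Agent.LsF.and_eq, Cfsg.Agent.LsF.map_eq, Cfsg.Agent.LsF.zipWith_eq, Cfsg.Agent.LsF.imul_eq]; exact rfl) | exact rfl⟩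
private noncomputable def _root_.Cfsg.Agent.LsF.f72c3a3_8 : {f // @Cfsg.Agent.LV.W.allLt = f} := ⟨_, by first | (delta Cfsg.Agent.LV.W.allLt; rewrite [Cfsg.Agent.LsF.and_eq]; exact rfl) | exact rfl⟩
private noncomputable def _root_.Cfsg.Agent.LsF.f72c3a3_9 : {f // @Cfsg.Agent.MO.U.Q5.look = f} := ⟨_, by first | (delta Cfsg.Agent.MO.U.Q5.look; rewrite [Cfsg.Agent.LsF.cond_eq]; exact rfl) | exact rfl⟩
private noncomputable def _root_.Cfsg.Agent.LsF.f72c3a3_10 : {f // @Cfsg.Agent.MO.U.Q5.key2 = f} := ⟨_, by first | (delta Cfsg.Agent.MO.U.Q5.key2; rewrite [Cfsg.Agent.LsF.iadd_eq, Cfsg.Agent.LsF.imul_eq, Cfsg.Agent.LsF.natAbs_eq]; exact rfl) | exact rfl⟩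
private noncomputable def _root_.Cfsg.Agent.LsF.f72c3a3_11 : {f // @Cfsg.Agent.MO.U.Q5.fnT = f} := ⟨_, by first | (delta Cfsg.Agent.MO.U.Q5.fnT; rewrite [Cfsg.Agent.LsF.f72c3a3_8.2, Cfsg.Agent.LsF.f72c3a3_9.2, Cfsg.Agent.LsF.f72c3a3_10.2, Cfsg.Agent.LsF.map_eq, Cfsg.Agent.LsF.range_eq, Cfsg.Agent.LsF.instIDecEq_eq, Cfsg.Agent.LsF.decide_eq]; exact rfl) | exact rfl⟩
private noncomputable def _root_.Cfsg.Agent.LsF.f72c3a3_12 : {f // @Cfsg.Agent.MO.U.Q5.stp = f} := ⟨_, by first | (delta Cfsg.Agent.MO.U.Q5.stp; rewrite [Cfsg.Agent.LsF.f72c3a3_7.2, Cfsg.Agent.LsF.f72c3a3_11.2, Cfsg.Agent.LsF.and_eq, Cfsg.Agent.LsF.length_eq]; exact rfl) | exact rfl⟩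
private noncomputable def _root_.Cfsg.Agent.LsF.f72c3a3_13 : {f // @Cfsg.Agent.LV.W.dz = f} := ⟨_, by first | (delta Cfsg.Agent.LV.W.dz; rewrite [Cfsg.Agent.LsF.cond_eq]; exact rfl) | exact rfl⟩
private noncomputable def _root_.Cfsg.Agent.LsF.f72c3a3_15 : {f // @Cfsg.Agent.LV.W.unz = f} := ⟨_, by first | (delta Cfsg.Agent.LV.W.unz; rewrite [Cfsg.Agent.LsF.f72c3a3_13.2, Cfsg.Agent.LsF.map_eq]; exact rfl) | exact rfl⟩
private noncomputable def _root_.Cfsg.Agent.LsF.f72c3a3_16 : {f // @Cfsg.Agent.LV.W.E8 = f} := ⟨_, by first | (delta Cfsg.Agent.LV.W.E8; rewrite [Cfsg.Agent.LsF.f72c3a3_15.2, Cfsg.Agent.LsF.ineg_pat, Cfsg.Agent.LsF.map_eq]; exact rfl) | exact rfl⟩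
theorem e8s : stp E8 1267650609876543211234567891237 e8c0 e8g1 e8c1 = true ∧
    stp E8 1267650609876543211234567891237 e8c1 e8g2 e8c2 = true ∧
    stp E8 1267650609876543211234567891237 e8c2 e8g3 e8c3 = true ∧
    stp E8 1267650609876543211234567891237 e8c3 e8g4 e8c4 = true ∧
    stp E8 1267650609876543211234567891237 e8c4 e8g5 e8c5 = true ∧
    stp E8 1267650609876543211234567891237 e8c5 e8g6 e8c6 = true ∧
    stp E8 1267650609876543211234567891237 e8c6 e8g7 e8c7 = true ∧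
    stp E8 1267650609876543211234567891237 e8c7 e8g8 e8c8 = true := by
  (refine of_decide_eq_true ?_; (try (rewrite [Cfsg.Agent.LsF.f72c3a3_12.2, Cfsg.Agent.LsF.f72c3a3_16.2, Cfsg.Agent.LsF.dAnd_eq, Cfsg.Agent.LsF.dBoolEq_eq, Cfsg.Agent.LsF.decide_eq])); decide +kernel)

private noncomputable def _root_.Cfsg.Agent.LsF.f72c3a3_17 : {f // @Cfsg.Agent.LV.W.runF = f} := ⟨_, by first | (delta Cfsg.Agent.LV.W.runF; rewrite [Cfsg.Agent.LsF.cond_eq]; exact rfl) | exact rfl⟩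
private noncomputable def _root_.Cfsg.Agent.LsF.f72c3a3_18 : {f // @Cfsg.Agent.LV.W.run = f} := ⟨_, by first | (delta Cfsg.Agent.LV.W.run; rewrite [Cfsg.Agent.LsF.f72c3a3_17.2]; exact rfl) | exact rfl⟩
private noncomputable def _root_.Cfsg.Agent.LsF.f72c3a3_19 : {f // @Cfsg.Agent.MO.U.orbB = f} := ⟨_, by first | (delta Cfsg.Agent.MO.U.orbB; rewrite [Cfsg.Agent.LsF.dMemE_pat, Cfsg.Agent.LsF.f72c3a3_8.2, Cfsg.Agent.LsF.f72c3a3_18.2, Cfsg.Agent.LsF.instDecEq_eq, Cfsg.Agent.LsF.all_eq, Cfsg.Agent.LsF.decide_eq]; exact rfl) | exact rfl⟩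
theorem _root_.Cfsg.Agent.MO.U.E8_dist : Dist E8 := by
  obtain ⟨h1, h2, h3, h4, h5, h6, h7, h8⟩ := e8s
  exact dist_of_chk E8_good _ (goD_orb (ws := [0x1]) (c' := e8c0) (by ((try (rewrite [Cfsg.Agent.LsF.dMemE_pat, Cfsg.Agent.LsF.f72c3a3_19.2, Cfsg.Agent.LsF.f72c3a3_16.2, Cfsg.Agent.LsF.f72c3a3_18.2, Cfsg.Agent.LsF.f72c3a3_11.2, Cfsg.Agent.LsF.and_eq, Cfsg.Agent.LsF.instDecEq_eq, Cfsg.Agent.LsF.map_eq, Cfsg.Agent.LsF.ite_eq])); decide +kernel))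
    (goD_stp E8_good h1 (goD_stp E8_good h2 (goD_stp E8_good h3 (goD_stp E8_good h4 (goD_stp E8_good h5 (goD_stp E8_good h6
    (goD_stp E8_good h7 (goD_stp E8_good h8 (goD_end (by ((try (rewrite [Cfsg.Agent.LsF.f72c3a3_11.2, Cfsg.Agent.LsF.f72c3a3_16.2, Cfsg.Agent.LsF.icast_pat])); decide +kernel))))))))))))

end Cfsg.Agent.MO.U.Q5

private theorem dce_f487e0049c69 : _root_.True := by
  try have : _root_.True := by simp only [_root_.Cfsg.Agent.MO.U.Q5.cfs.eq_1]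
  exact _root_.True.intro
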